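import Cfsg.Agent.Lib.Coprime.Bridge
import Cfsg.Agent.Lib.Transfer.Basic
import Cfsg.Agent.Lib.FPFThompson.Main
import Cfsg.Agent.Lib.Core.Basic
import Cfsg.Agent.Lib.Core.ThompsonMap
import Cfsg.Agent.S0108
import Cfsg.Agent.Lib.OddLocal.CN

/-!
# Coprime action with nilpotent maximal invariant subgroups

`A` acts coprimely on `G`, one of them being solvable. If every maximal `A`-invariant subgroup of `G`
is nilpotent, and `G` is not, then `G` is solvable, `|G| = p ^ a q ^ b` and `G` has a normal
`A`-invariant Sylow subgroup.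

The proof: Thompson's normal `p`-complement theorem gives the solvability; a Schmidt type argument
gives the rest.
-/

set_option autoImplicit false
set_option linter.style.haveILetI false
set_option linter.unusedSectionVars false
set_option linter.unusedVariables false

namespace Cfsg.Agent.Lib.MaxInvNil.Main

open Cfsg Cfsg.Agent.Lib.Core.Basic Cfsg.Agent.Lib.Transfer.Basic
open scoped commutatorElement

universe u v

variable {A : Type v} [Group A] [Finite A]

/-- Invariant subgroups. -/
def Inv (A : Type v) {G : Type u} [Group A] [Group G] [MulDistribMulAction A G] (H : Subgroup G) : Prop :=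
  ∀ a : A, ∀ x ∈ H, a • x ∈ H

section Quot

variable {G : Type u} [Group G] [MulDistribMulAction A G]

/-- The action on a quotient. -/
def quotHom (N : Subgroup G) [N.Normal] (hN : Inv A N) (a : A) : G ⧸ N →* G ⧸ N :=
  QuotientGroup.map N N (MulDistribMulAction.toMonoidHom G a) (fun x hx => hN a x hx)

/-- The action on a quotient. -/
@[reducible] def quotAct (N : Subgroup G) [N.Normal] (hN : Inv A N) : MulDistribMulAction A (G ⧸ N) where
  smul a q := quotHom N hN a q
  one_smul q := by
    induction q using QuotientGroup.induction_on with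
    | H x =>
      change (((1 : A) • x : G) : G ⧸ N) = x
      rw [one_smul]
  mul_smul a b q := by
    induction q using QuotientGroup.induction_on with
    | H x =>
      change (((a * b) • x : G) : G ⧸ N) = ((a • b • x : G) : G ⧸ N)
      rw [mul_smul]
  smul_mul a x y := map_mul (quotHom N hN a) x y
  smul_one a := map_one (quotHom N hN a)

theorem quot_smul_mk (N : Subgroup G) [N.Normal] (hN : Inv A N) (a : A) (x : G) :
    (quotAct N hN).toSMul.smul a (x : G ⧸ N) = ((a • x : G) : G ⧸ N) := rfl

end Quot

section Inv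

variable {G : Type u} [Group G] [Finite G] [MulDistribMulAction A G]

/-- The Thompson subgroup of an invariant subgroup is invariant. -/
theorem inv_thompson (p : ℕ) {R : Subgroup G} (hR : Inv A R) : Inv A (thompsonSubgroupOf p R) := by
  rintro a _ ⟨y, hy, rfl⟩
  -- the automorphism of `R`
  let φ : R ≃* R :=
    { toFun := fun r => ⟨a • (r : G), hR a r r.2⟩
      invFun := fun r => ⟨a⁻¹ • (r : G), hR a⁻¹ r r.2⟩
      left_inv := fun r => Subtype.ext (by simp)
      right_inv := fun r => Subtype.ext (by simp)
      map_mul' := fun r s => Subtype.ext (by simp [smul_mul']) }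
  have h := Cfsg.Agent.Lib.Core.ThompsonMap.map_thompsonSubgroup_equiv (p := p) φ
  have h2 : φ y ∈ thompsonSubgroup p R := by
    rw [← h]
    exact ⟨y, hy, rfl⟩
  exact ⟨φ y, h2, rfl⟩

theorem inv_normalizer {X : Subgroup G} (hX : Inv A X) :
    Inv A (Subgroup.normalizer (X : Set G)) := by
  intro a x hx
  rw [Subgroup.mem_normalizer_iff] at hx ⊢
  intro y
  constructor
  · intro hy
    have h1 : a⁻¹ • y ∈ X := hX a⁻¹ y hy
    have h2 := hX a _ ((hx _).1 h1)
    have h3 : a • (x * a⁻¹ • y * x⁻¹) = (a • x) * y * (a • x)⁻¹ := by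
      simp [smul_mul', smul_inv']
    rwa [h3] at h2
  · intro hy
    have h3 : a⁻¹ • ((a • x) * y * (a • x)⁻¹) = x * a⁻¹ • y * x⁻¹ := by
      simp [smul_mul', smul_inv']
    have h2 := hX a⁻¹ _ hy
    rw [h3] at h2
    have h4 := (hx _).2 h2
    simpa using hX a _ h4

theorem inv_centralizer {X : Subgroup G} (hX : Inv A X) :
    Inv A (Subgroup.centralizer (X : Set G)) := by
  intro a x hx
  rw [Subgroup.mem_centralizer_iff] at hx ⊢
  intro y hy
  have h1 := hx _ (hX a⁻¹ y hy)
  have h2 := congrArg (fun z => a • z) h1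
  simpa [smul_mul'] using h2

theorem inv_inf {X Y : Subgroup G} (hX : Inv A X) (hY : Inv A Y) : Inv A (X ⊓ Y) :=
  fun a x hx => ⟨hX a x hx.1, hY a x hx.2⟩

/-- The residual is invariant. -/
theorem inv_pResidual (p : ℕ) : Inv A (pResidual p G) := by
  intro a x hx
  let φ : G ≃* G := MulDistribMulAction.toMulAut A G a
  have h := Subgroup.closure_induction (p := fun x _ => φ x ∈ pResidual p G) ?_ ?_ ?_ ?_ hx
  · exact h
  · intro y hy
    apply Subgroup.subset_closure
    have : orderOf (φ y) = orderOf y := MulEquiv.orderOf_eq φ y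
    change Nat.Coprime (orderOf (φ y)) p
    rw [this]
    exact hy
  · rw [map_one]; exact Subgroup.one_mem _
  · intro y z _ _ hy hz
    rw [map_mul]; exact Subgroup.mul_mem _ hy hz
  · intro y _ hy
    rw [map_inv]; exact Subgroup.inv_mem _ hy

/-- The `p`-core is invariant. -/
theorem inv_pCore (p : ℕ) : Inv A (pCore p G) := by
  intro a x hx
  let φ : G ≃* G := MulDistribMulAction.toMulAut A G a
  have h : (pCore p G).map φ.toMonoidHom = pCore p G := map_pCore_equiv φ
  rw [← h]
  exact ⟨x, hx, rfl⟩

/-- From `hmax`: all proper invariant subgroups are nilpotent. -/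
theorem all_proper_nilpotent
    (hmax : ∀ H : Subgroup G, H ≠ ⊤ → (∀ a : A, ∀ x ∈ H, a • x ∈ H) →
      (∀ K : Subgroup G, H < K → (∀ a : A, ∀ x ∈ K, a • x ∈ K) → K = ⊤) → Group.IsNilpotent H)
    (H : Subgroup G) (hH : H ≠ ⊤) (hHinv : Inv A H) : Group.IsNilpotent H := by
  classical
  obtain ⟨M, hHM, hM⟩ := Finite.exists_le_maximal (p := fun K : Subgroup G => K ≠ ⊤ ∧ Inv A K) (a := H) ⟨hH, hHinv⟩
  have hnil := hmax M hM.prop.1 hM.prop.2 (fun K hMK hK => by
    by_contra hne
    exact absurd (hM.le_of_ge ⟨hne, hK⟩ hMK.le) (not_le_of_gt hMK))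
  exact isNilpotent_of_injective (Subgroup.inclusion hHM) (Subgroup.inclusion_injective hHM)

end Inv

theorem hRes_normal {G : Type u} [Group G] (r : ℕ) : (pResidual r G).Normal := by
  constructor
  intro x hx g
  refine Subgroup.closure_induction (p := fun x _ => g * x * g⁻¹ ∈ pResidual r G) ?_ ?_ ?_ ?_ hx
  · intro y hy
    apply Subgroup.subset_closure
    have h1 : orderOf (g * y * g⁻¹) = orderOf y := MulEquiv.orderOf_eq (MulAut.conj g) y
    change Nat.Coprime (orderOf (g * y * g⁻¹)) r
    rw [h1]
    exact hy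
  · simp [Subgroup.one_mem]
  · intro y z _ _ hy hz
    have : g * (y * z) * g⁻¹ = (g * y * g⁻¹) * (g * z * g⁻¹) := by group
    rw [this]
    exact Subgroup.mul_mem _ hy hz
  · intro y _ hy
    have : g * y⁻¹ * g⁻¹ = (g * y * g⁻¹)⁻¹ := by group
    rw [this]
    exact Subgroup.inv_mem _ hy

/-- **Solvability.** -/
theorem solvable_aux (hA : Group.IsSolvable A) (n : ℕ) : ∀ (G : Type u) [Group G] [Finite G]
    [MulDistribMulAction A G], Nat.card G = n → (Nat.card A).Coprime (Nat.card G) →
    (∀ H : Subgroup G, H ≠ ⊤ → Inv A H → Group.IsNilpotent H) → Group.IsSolvable G := by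
  induction n using Nat.strong_induction_on with
  | _ n ih =>
  intro G _ _ _ hn hcop hprop
  classical
  by_cases hex : ∃ N : Subgroup G, N.Normal ∧ Inv A N ∧ N ≠ ⊥ ∧ N ≠ ⊤
  · obtain ⟨N, hNn, hNinv, hN0, hNt⟩ := hex
    haveI := hNn
    letI := quotAct N hNinv
    have hlt : Nat.card (G ⧸ N) < n := by
      rw [← hn, ← Subgroup.card_mul_index N]
      have h1 : 1 < Nat.card N := by
        rw [Finite.one_lt_card_iff_nontrivial]
        exact (Subgroup.nontrivial_iff_ne_bot N).2 hN0
      have h2 : Nat.card (G ⧸ N) = N.index := rfl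
      have h3 : 0 < N.index := Nat.pos_of_ne_zero Subgroup.index_ne_zero_of_finite
      rw [h2]
      nlinarith
    have hsolq : Group.IsSolvable (G ⧸ N) := by
      refine ih _ hlt (G ⧸ N) rfl ?_ ?_
      · have h1 : Nat.card (G ⧸ N) ∣ Nat.card G := Subgroup.card_quotient_dvd_card N
        exact Nat.Coprime.coprime_dvd_right h1 hcop
      · intro H hH hHinv
        -- pull back
        let H' : Subgroup G := H.comap (QuotientGroup.mk' N)
        have hH't : H' ≠ ⊤ := by
          intro h
          apply hH
          rw [eq_top_iff]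
          intro q _
          obtain ⟨x, rfl⟩ := QuotientGroup.mk_surjective q
          have : x ∈ H' := by rw [h]; trivial
          exact this
        have hH'inv : Inv A H' := by
          intro a x hx
          exact hHinv a _ hx
        have hnil := hprop H' hH't hH'inv
        let f : H' →* H := ((QuotientGroup.mk' N).comp H'.subtype).codRestrict H (fun x => x.2)
        have hf : Function.Surjective f := by
          rintro ⟨q, hq⟩
          obtain ⟨x, rfl⟩ := QuotientGroup.mk_surjective q
          exact ⟨⟨x, hq⟩, rfl⟩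
        exact Group.nilpotent_of_surjective f hf
    haveI := hsolq
    have hNsol : Group.IsSolvable N := by
      haveI := hprop N hNt hNinv
      infer_instance
    haveI := hNsol
    exact solvable_of_ker_le_range N.subtype (QuotientGroup.mk' N) (by
      intro x hx
      rw [MonoidHom.mem_ker, QuotientGroup.mk'_apply, QuotientGroup.eq_one_iff] at hx
      exact ⟨⟨x, hx⟩, rfl⟩)
  · push Not at hex
    -- `G` has no proper invariant normal subgroups
    by_cases hodd : ∃ r : ℕ, r.Prime ∧ r ≠ 2 ∧ r ∣ Nat.card G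
    · obtain ⟨r, hr, hr2, hrG⟩ := hodd
      haveI : Fact r.Prime := ⟨hr⟩
      obtain ⟨R₀, hRinv, hRp, hRi⟩ := Cfsg.Agent.Lib.Coprime.Bridge.exists_invariant_sylow
        (A := A) (G := G) hcop (Or.inl hA) r
      let R : Sylow r G := hRp.toSylow hRi
      have hRval : (R : Subgroup G) = R₀ := rfl
      have hRinv' : Inv A (R : Subgroup G) := hRinv
      have hrgroup : IsPGroup r G → Group.IsSolvable G := fun h =>
        haveI := h.isNilpotent
        inferInstance
      -- an invariant normal non-trivial subgroup of `R`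
      have hK : ∀ K : Subgroup G, K ≤ R → K ≠ ⊥ → K.Normal → Inv A K → Group.IsSolvable G := by
        intro K hKR hK0 hKn hKinv
        have hKt : K = ⊤ := by
          by_contra hne
          exact hne (hex K hKn hKinv hK0)
        have hRt : (R : Subgroup G) = ⊤ := by
          rw [eq_top_iff, ← hKt]
          exact hKR
        apply hrgroup
        have h1 : IsPGroup r (R : Subgroup G) := R.isPGroup'
        intro g
        obtain ⟨k, hk⟩ := h1 ⟨g, by rw [hRt]; trivial⟩
        exact ⟨k, congrArg Subtype.val hk⟩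
      have hRne : (R : Subgroup G) ≠ ⊥ := R.ne_bot_of_dvd_card hrG
      haveI : Nontrivial R := (Subgroup.nontrivial_iff_ne_bot _).2 hRne
      set J := thompsonSubgroupOf r (R : Subgroup G) with hJ
      set Z := (R : Subgroup G) ⊓ Subgroup.centralizer ((R : Subgroup G) : Set G) with hZ
      have hJinv : Inv A J := inv_thompson r hRinv'
      have hZinv : Inv A Z := inv_inf hRinv' (inv_centralizer hRinv')
      have hZ0 : Z ≠ ⊥ := by
        haveI := (R.isPGroup').center_nontrivial
        obtain ⟨⟨z, hzc⟩, hz⟩ := exists_ne (1 : Subgroup.center (R : Subgroup G))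
        intro h
        have hmem : (z : G) ∈ Z := by
          refine ⟨z.2, Subgroup.mem_centralizer_iff.2 fun y hy => ?_⟩
          have := (Subgroup.mem_center_iff.1 hzc) ⟨y, hy⟩
          exact congrArg Subtype.val this
        rw [h, Subgroup.mem_bot] at hmem
        apply hz
        apply Subtype.ext
        exact Subtype.ext hmem
      have hZR : Z ≤ R := inf_le_left
      have hJR : J ≤ R := Subgroup.map_subtype_le _
      have hJ0 : J ≠ ⊥ := by
        -- a subgroup of prime order is elementary abelian
        intro hbot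
        have hJ' : thompsonSubgroup r (R : Subgroup G) = ⊥ :=
          (Subgroup.map_eq_bot_iff_of_injective _ (R : Subgroup G).subtype_injective).1 hbot
        obtain ⟨x, hx⟩ := exists_prime_orderOf_dvd_card' (G := (R : Subgroup G)) r
          (by
            obtain ⟨k, hk⟩ := IsPGroup.iff_card.1 R.isPGroup'
            have h1 : Nat.card (R : Subgroup G) ≠ 1 := by
              intro h
              exact hRne ((Subgroup.eq_bot_iff_card _).2 h)
            rw [hk] at h1 ⊢
            have : k ≠ 0 := by rintro rfl; simp at h1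
            exact dvd_pow_self r this)
        let S : Set (Subgroup (R : Subgroup G)) := {B | IsElementaryAbelian r B}
        have hE : Subgroup.zpowers x ∈ S := by
          refine ⟨IsCyclic.isMulCommutative, fun a ha => ?_⟩
          obtain ⟨n, rfl⟩ := Subgroup.mem_zpowers_iff.1 ha
          have hxr : x ^ r = 1 := by
            have h2 := pow_orderOf_eq_one x
            rwa [hx] at h2
          rw [← zpow_natCast, zpow_comm, zpow_natCast, hxr, one_zpow]
        obtain ⟨B, hB, hBmax⟩ := Set.exists_max_image S (fun B => Nat.card B) (Set.toFinite _) ⟨_, hE⟩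
        have hBle : B ≤ thompsonSubgroup r (R : Subgroup G) := le_sSup ⟨hB, hBmax⟩
        rw [hJ', le_bot_iff] at hBle
        have h1 := hBmax _ hE
        rw [hBle, Subgroup.card_bot, Nat.card_zpowers, hx] at h1
        exact hr.one_lt.not_ge h1
      by_cases hN1 : Subgroup.normalizer (J : Set G) = ⊤
      · haveI hJn : J.Normal := Subgroup.normalizer_eq_top_iff.1 hN1
        exact hK J hJR hJ0 hJn hJinv
      by_cases hN2 : Subgroup.centralizer (Z : Set G) = ⊤
      · have hZn : Z.Normal := by
          constructor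
          intro z hz g
          have : g ∈ Subgroup.centralizer (Z : Set G) := by rw [hN2]; trivial
          have h1 := (Subgroup.mem_centralizer_iff.1 this) z hz
          have h2 : g * z * g⁻¹ = z := by rw [← h1]; group
          rw [h2]
          exact hz
        exact hK Z hZR hZ0 hZn hZinv
      have hc1 := Cfsg.Agent.Lib.FPFThompson.Main.hasNormalPComplement_of_nilpotent r
        (hprop _ hN1 (inv_normalizer hJinv))
      have hc2 := Cfsg.Agent.Lib.FPFThompson.Main.hasNormalPComplement_of_nilpotent r
        (hprop _ hN2 (inv_centralizer hZinv))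
      have hpc : HasNormalPComplement r G := (Cfsg.Agent.S0108.result hr2 R).2 ⟨hc1, hc2⟩
      -- the complement is invariant
      have hRes := isComplement'_pResidual hpc R
      have hresn : (pResidual r G).Normal := hRes_normal r
      by_cases hres0 : pResidual r G = ⊥
      · have h1 := hRes.card_mul
        rw [hres0, Subgroup.card_bot, one_mul] at h1
        have h2 : (R : Subgroup G) = ⊤ := Subgroup.eq_top_of_card_eq _ h1
        apply hrgroup
        intro g
        obtain ⟨k, hk⟩ := R.isPGroup' ⟨g, by rw [h2]; trivial⟩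
        exact ⟨k, congrArg Subtype.val hk⟩
      · have h1 := hex _ hresn (inv_pResidual r) hres0
        have h2 := hRes.card_mul
        rw [h1, Subgroup.card_top] at h2
        have h3 : Nat.card (R : Subgroup G) = 1 := by
          have hpos : 0 < Nat.card G := Nat.card_pos
          nlinarith
        exact absurd ((Subgroup.eq_bot_iff_card _).2 h3) hRne
    · -- `G` is a 2-group
      push Not at hodd
      have h2 : IsPGroup 2 G := by
        rw [IsPGroup.iff_card]
        refine ⟨_, Nat.eq_prime_pow_of_unique_prime_dvd Nat.card_pos.ne' ?_⟩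
        intro d hd hdd
        by_contra hne
        exact hodd d hd hne hdd
      haveI : Fact (Nat.Prime 2) := ⟨Nat.prime_two⟩
      haveI := h2.isNilpotent
      infer_instance

section Structure

variable {G : Type u} [Group G] [Finite G] [MulDistribMulAction A G]

theorem inv_of_char (H : Subgroup G) [hH : H.Characteristic] : Inv A H := by
  intro a x hx
  have h := hH.fixed (MulDistribMulAction.toMulAut A G a)
  have h2 : x ∈ H.comap (MulDistribMulAction.toMulAut A G a).toMonoidHom := by rw [h]; exact hx
  exact h2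

theorem inv_sup {X Y : Subgroup G} (hX : Inv A X) (hY : Inv A Y) : Inv A (X ⊔ Y) := by
  intro a x hx
  have h : X ⊔ Y ≤ (X ⊔ Y).comap (MulDistribMulAction.toMonoidHom G a) :=
    sup_le (fun x hx => (le_sup_left : X ≤ X ⊔ Y) (hX a x hx))
      (fun x hx => (le_sup_right : Y ≤ X ⊔ Y) (hY a x hx))
  exact h hx

/-- **The main theorem, with solvability of one of the two groups as a hypothesis.** -/
theorem main_of_solvable (hsol : Group.IsSolvable A ∨ Group.IsSolvable G)
    (hcop : (Nat.card A).Coprime (Nat.card G))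
    (hmax : ∀ H : Subgroup G, H ≠ ⊤ → (∀ a : A, ∀ x ∈ H, a • x ∈ H) →
      (∀ K : Subgroup G, H < K → (∀ a : A, ∀ x ∈ K, a • x ∈ K) → K = ⊤) → Group.IsNilpotent H)
    (hG : ¬ Group.IsNilpotent G) :
    Group.IsSolvable G ∧
      (∃ p q a b : ℕ, p.Prime ∧ q.Prime ∧ p ≠ q ∧ Nat.card G = p ^ a * q ^ b) ∧
      ∃ (p : ℕ) (P : Sylow p G), p.Prime ∧ p ∣ Nat.card G ∧ (P : Subgroup G).Normal ∧
        (∀ a : A, ∀ x ∈ (P : Subgroup G), a • x ∈ (P : Subgroup G)) := by
  classical
  have hprop := all_proper_nilpotent (A := A) hmax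
  have hsolG : Group.IsSolvable G := by
    rcases hsol with hA | hG'
    · exact solvable_aux hA _ G rfl hcop hprop
    · exact hG'
  refine ⟨hsolG, ?_⟩
  haveI := hsolG
  have hnt : Nontrivial G := by
    by_contra hcon
    rw [not_nontrivial_iff_subsingleton] at hcon
    exact hG inferInstance
  have hcomm : commutator G ≠ ⊤ := (IsSolvable.commutator_lt_top_of_nontrivial G).ne
  have hcomminv : Inv A (commutator G) := inv_of_char _
  obtain ⟨M, hGM, hM⟩ := Finite.exists_le_maximal
    (p := fun K : Subgroup G => K ≠ ⊤ ∧ Inv A K) (a := commutator G) ⟨hcomm, hcomminv⟩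
  have hMt := hM.prop.1
  have hMinv := hM.prop.2
  -- subgroups above the commutator are normal
  have hnormal : ∀ K : Subgroup G, commutator G ≤ K → K.Normal := by
    intro K hK
    constructor
    intro k hk g
    have h1 : g * k * g⁻¹ = ⁅g, k⁆ * k := by
      simp [commutatorElement_def]
    rw [h1]
    exact K.mul_mem (hK (Subgroup.commutator_mem_commutator (Subgroup.mem_top g) (Subgroup.mem_top k))) hk
  have hMn : M.Normal := hnormal M hGM
  have hMnil := hprop M hMt hMinv
  have hidx : M.index ≠ 1 := by
    intro h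
    exact hMt (Subgroup.index_eq_one.1 h)
  obtain ⟨r, hr, hrM⟩ := Nat.exists_prime_and_dvd hidx
  haveI : Fact r.Prime := ⟨hr⟩
  obtain ⟨R, hRinv, hRp, hRi⟩ := Cfsg.Agent.Lib.Coprime.Bridge.exists_invariant_sylow
    (A := A) (G := G) hcop (Or.inr hsolG) r
  have hsup : M ⊔ R = ⊤ := by
    by_contra hne
    have h1 : M ⊔ R ≤ M := hM.le_of_ge ⟨hne, inv_sup hMinv hRinv⟩ le_sup_left
    have h2 : R ≤ M := le_sup_right.trans h1
    exact hRi (hrM.trans (Subgroup.index_dvd_of_le h2))
  -- `R` is not normal
  have hRnn : ¬ R.Normal := by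
    intro hRn
    have h1 : M ≤ fittingSubgroup G := le_fittingSubgroup hMn hMnil
    have h2 : R ≤ fittingSubgroup G := le_fittingSubgroup hRn (isPGroup_isNilpotent hRp)
    have h3 : fittingSubgroup G = ⊤ := by
      rw [eq_top_iff, ← hsup]
      exact sup_le h1 h2
    have h4 := fittingSubgroup_isNilpotent (G := G)
    rw [h3] at h4
    apply hG
    exact Group.nilpotent_of_surjective (⊤ : Subgroup G).subtype (fun x => ⟨⟨x, trivial⟩, rfl⟩)
  -- a prime `q`
  obtain ⟨q, hq, hqr, y, hy, x, hx, hxy⟩ : ∃ q : ℕ, q.Prime ∧ q ≠ r ∧ ∃ y ∈ pCore q G, ∃ x ∈ R,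
      x * y ≠ y * x := by
    by_contra hcon
    push Not at hcon
    apply hRnn
    have hle : ∀ q : Nat.Primes, pCore (q : ℕ) G ≤ Subgroup.normalizer (R : Set G) := by
      intro q
      by_cases hqr : (q : ℕ) = r
      · have h1 : pCore (q : ℕ) G ≤ R := by
          rw [hqr]
          exact pCore_le_sylow (hRp.toSylow hRi)
        exact h1.trans Subgroup.le_normalizer
      · intro y hy
        rw [Subgroup.mem_normalizer_iff]
        intro z
        have h1 : ∀ z ∈ R, y * z = z * y := fun z hz => (hcon q q.2 hqr y hy z hz).symm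
        constructor
        · intro hz
          have h2 : y * z * y⁻¹ = z := by rw [h1 z hz]; group
          rw [h2]; exact hz
        · intro hz
          have h2 := h1 _ hz
          have h3 : y * z * y⁻¹ = z := by
            have h4 : y * (y * z * y⁻¹) * y⁻¹ = y * z * y⁻¹ := by rw [h2]; group
            have h5 : y⁻¹ * (y * (y * z * y⁻¹) * y⁻¹) * y = y⁻¹ * (y * z * y⁻¹) * y := by rw [h4]
            have h6 : y⁻¹ * (y * (y * z * y⁻¹) * y⁻¹) * y = y * z * y⁻¹ := by group
            have h7 : y⁻¹ * (y * z * y⁻¹) * y = z := by group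
            rw [← h6, h5, h7]
          rw [h3] at hz
          exact hz
    have h1 : fittingSubgroup G ≤ Subgroup.normalizer (R : Set G) := by
      rw [fittingSubgroup_eq_iSup_pCore]
      exact iSup_le hle
    have h2 : M ≤ fittingSubgroup G := le_fittingSubgroup hMn hMnil
    have h3 : Subgroup.normalizer (R : Set G) = ⊤ := by
      rw [eq_top_iff, ← hsup]
      exact sup_le (h2.trans h1) Subgroup.le_normalizer
    exact Subgroup.normalizer_eq_top_iff.1 h3
  haveI : Fact q.Prime := ⟨hq⟩
  set Q := pCore q G with hQdef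
  have hQp : IsPGroup q Q := pCore_isPGroup
  have hQn : Q.Normal := pCore_normal q G
  have hQinv : Inv A Q := inv_pCore q
  have hsup2 : Q ⊔ R = ⊤ := by
    by_contra hne
    have hnil := hprop _ hne (inv_sup hQinv hRinv)
    apply hxy
    have hco : (orderOf x).Coprime (orderOf y) := by
      obtain ⟨k, hk⟩ := hRp ⟨x, hx⟩
      obtain ⟨l, hl⟩ := hQp ⟨y, hy⟩
      have h1 : orderOf x ∣ r ^ k := orderOf_dvd_of_pow_eq_one (congrArg Subtype.val hk)
      have h2 : orderOf y ∣ q ^ l := orderOf_dvd_of_pow_eq_one (congrArg Subtype.val hl)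
      have h3 : Nat.Coprime (r ^ k) (q ^ l) :=
        Nat.Coprime.pow _ _ ((Nat.coprime_primes hr hq).2 (Ne.symm hqr))
      exact Nat.Coprime.coprime_dvd_left h1 (Nat.Coprime.coprime_dvd_right h2 h3)
    exact Cfsg.Agent.Lib.OddLocal.CN.commute_of_coprime' hnil
      ((le_sup_right : R ≤ Q ⊔ R) hx) ((le_sup_left : Q ≤ Q ⊔ R) hy) hco
  -- the order
  have hsurj : Function.Surjective ((QuotientGroup.mk' Q).comp R.subtype) := by
    intro q'
    obtain ⟨g, rfl⟩ := QuotientGroup.mk_surjective q'
    have hg : g ∈ ((Q ⊔ R : Subgroup G) : Set G) := by rw [hsup2]; trivial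
    rw [Subgroup.normal_mul] at hg
    obtain ⟨n, hn, h, hh, rfl⟩ := Set.mem_mul.1 hg
    refine ⟨⟨h, hh⟩, ?_⟩
    change ((h : G) : G ⧸ Q) = ((n * h : G) : G ⧸ Q)
    rw [QuotientGroup.eq]
    have h1 : h⁻¹ * (n * h) = h⁻¹ * n * h := by group
    rw [h1]
    have := hQn.conj_mem n hn h⁻¹
    simpa using this
  obtain ⟨a, ha⟩ := IsPGroup.iff_card.1 hRp
  obtain ⟨b, hb⟩ := IsPGroup.iff_card.1 hQp
  have hdvd : Q.index ∣ r ^ a := by
    rw [← ha]
    exact card_dvd_of_surjective _ hsurj
  obtain ⟨c, -, hc⟩ := (Nat.dvd_prime_pow hr).1 hdvd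
  have hcard : Nat.card G = q ^ b * r ^ c := by
    rw [← hb, ← hc]
    exact (Subgroup.card_mul_index Q).symm
  have hqi : ¬ q ∣ Q.index := by
    rw [hc]
    intro h
    exact hqr ((Nat.prime_dvd_prime_iff_eq hq hr).1 (hq.dvd_of_dvd_pow h))
  have hb0 : b ≠ 0 := by
    rintro rfl
    rw [pow_zero] at hb
    have h1 : Q = ⊥ := (Subgroup.eq_bot_iff_card Q).2 hb
    rw [h1, Subgroup.mem_bot] at hy
    rw [hy] at hxy
    simp at hxy
  have hqG : q ∣ Nat.card G := by
    rw [hcard]
    exact Dvd.dvd.mul_right (dvd_pow_self q hb0) _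
  exact ⟨⟨q, r, b, c, hq, hr, hqr, hcard⟩, q, hQp.toSylow hqi, hq, hqG, hQn, hQinv⟩

end Structure

end Cfsg.Agent.Lib.MaxInvNil.Main
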